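import Mathlib
import Cfsg.Agent.H547.SelfCent.Base
import Cfsg.Prelude.Def_Spor_Ru
import Cfsg.Agent.S1627
import Cfsg.Agent.Prune
set_option linter.all false
prune_inst 0x7f00000000000000000000000000000000000000000000000000000000000000000000000000000000000000000000000000000000000000000000000000000000000000000000000000000000000000003fffffffffffffffffffffffffffbeffbdffffffff
open scoped Cfsg.Agent.FastGrp

-- part: H547/SelfCent/Cyclo
section
/-!
# Commuting automorphisms of finite order of a rational vector space (helper547)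

* `keyA` : an endomorphism `u` with `u ^ n = 1` of a rational vector space of dimension less than `φ(n)` satisfies
  `P(u) = 0` if all `Φ_d`, `d ∣ n`, `d ≠ n`, divide `P`; if the dimension is `φ(n)` then `P(u) = 0` or `Φ_n(u) = 0`;
* `ru_key` : commuting `I`, `f`, `y` with `I² = -1`, `f^29 = 1`, `y^q = 1` on a space of dimension at most `56`:
  `f = 1` or `y = 1` (`q ≠ 2, 29` prime).
-/

set_option autoImplicit false
set_option maxRecDepth 4000

namespace Cfsg.Agent.H547.SelfCent.Cyclo

open Polynomial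

section

variable {V : Type*} [AddCommGroup V] [Module ℚ V] [FiniteDimensional ℚ V]

theorem keyA (u : Module.End ℚ V) {n : ℕ} (hn : 0 < n) (hu : u ^ n = 1) (P : ℚ[X])
    (hP : ∀ d ∈ n.properDivisors, cyclotomic d ℚ ∣ P) :
    (n.totient ≤ Module.finrank ℚ V ∧ (Module.finrank ℚ V ≤ n.totient → aeval u (cyclotomic n ℚ) = 0)) ∨
      aeval u P = 0 := by
  have hirr := cyclotomic.irreducible_rat hn
  by_cases hd : cyclotomic n ℚ ∣ minpoly ℚ u
  · left
    have hint : IsIntegral ℚ u := Algebra.IsIntegral.isIntegral u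
    have hne : minpoly ℚ u ≠ 0 := minpoly.ne_zero hint
    have h1 : (minpoly ℚ u).natDegree ≤ Module.finrank ℚ V := by
      rw [← LinearMap.charpoly_natDegree u]
      exact natDegree_le_of_dvd (LinearMap.minpoly_dvd_charpoly u) (LinearMap.charpoly_monic u).ne_zero
    have h2 : n.totient ≤ (minpoly ℚ u).natDegree := by
      rw [← natDegree_cyclotomic n ℚ]
      exact natDegree_le_of_dvd hd hne
    refine ⟨h2.trans h1, fun h3 => ?_⟩
    have h4 : minpoly ℚ u = cyclotomic n ℚ := by
      refine eq_of_monic_of_dvd_of_natDegree_le (cyclotomic.monic n ℚ) (minpoly.monic hint) hd ?_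
      rw [natDegree_cyclotomic]
      omega
    rw [← h4]
    exact minpoly.aeval ℚ u
  · right
    have hco : IsCoprime (cyclotomic n ℚ) (minpoly ℚ u) := (hirr.coprime_iff_not_dvd).2 hd
    have h1 : minpoly ℚ u ∣ X ^ n - 1 := by
      apply minpoly.dvd
      rw [map_sub, map_pow, aeval_X, hu, map_one, sub_self]
    have h2 : (X ^ n - 1 : ℚ[X]) = cyclotomic n ℚ * ∏ d ∈ n.properDivisors, cyclotomic d ℚ := by
      rw [← prod_cyclotomic_eq_X_pow_sub_one hn, ← Nat.cons_self_properDivisors hn.ne', Finset.prod_cons]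
    rw [h2] at h1
    have h3 : minpoly ℚ u ∣ ∏ d ∈ n.properDivisors, cyclotomic d ℚ := hco.symm.dvd_of_dvd_mul_left h1
    have h4 : (∏ d ∈ n.properDivisors, cyclotomic d ℚ) ∣ P :=
      Finset.prod_dvd_of_coprime (fun a _ b _ hab => cyclotomic.isCoprime_rat hab) hP
    obtain ⟨Q, hQ⟩ := h3.trans h4
    rw [hQ, map_mul, minpoly.aeval, zero_mul]

theorem ru_key (hV : Module.finrank ℚ V ≤ 56) {I f y : Module.End ℚ V} (hI : I * I = -1) (hf : f ^ 29 = 1) {q : ℕ}
    (hq : q.Prime) (hq2 : q ≠ 2) (hq29 : q ≠ 29) (hy : y ^ q = 1) (hIf : Commute I f) (hIy : Commute I y)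
    (hfy : Commute f y) : f = 1 ∨ y = 1 := by
  by_contra hcon
  rw [not_or] at hcon
  obtain ⟨hf1, hy1⟩ := hcon
  have hI4 : I ^ 4 = 1 := by
    rw [show 4 = 2 * 2 from rfl, pow_mul, pow_two I, hI]
    norm_num
  -- powers of elements of prime order
  have hpow1 : ∀ {z : Module.End ℚ V} {p k : ℕ}, p.Prime → z ^ p = 1 → z ^ k = 1 → ¬ p ∣ k → z = 1 := by
    intro z p k hp h1 h2 h3
    have h4 : orderOf z ∣ Nat.gcd p k := Nat.dvd_gcd (orderOf_dvd_of_pow_eq_one h1) (orderOf_dvd_of_pow_eq_one h2)
    rw [(Nat.Prime.coprime_iff_not_dvd hp).2 h3] at h4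
    exact orderOf_eq_one_iff.1 (Nat.dvd_one.1 h4)
  have hp29 : Nat.Prime 29 := by norm_num
  have htwo : ∀ z : Module.End ℚ V, (-1 - 1) * z = 0 → z = 0 := by
    intro z hz
    have h1 : (2 : ℚ) • z = 0 := by
      have h2 : (-1 - 1) * z = -((2 : ℚ) • z) := by
        rw [sub_mul, one_mul, neg_one_mul, two_smul]
        abel
      rw [h2] at hz
      exact neg_eq_zero.1 hz
    exact (smul_eq_zero.1 h1).resolve_left (by norm_num)
  have hI58 : ∀ m : ℕ, ¬ 2 ∣ m → I ^ (58 * m) = -1 := by
    intro m hm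
    have h1 : 58 * m = 4 * (14 * m + m / 2) + 2 := by omega
    rw [h1, pow_add, pow_mul, hI4, one_pow, one_mul, pow_two, hI]
  -- step 1
  have h4f : (I * f) ^ 4 = f ^ 4 := by rw [hIf.mul_pow, hI4, one_mul]
  have s1 : aeval (I * f) (cyclotomic 116 ℚ) = 0 := by
    have hu : (I * f) ^ 116 = 1 := by
      rw [hIf.mul_pow, show 116 = 4 * 29 from rfl, pow_mul, hI4, one_pow, one_mul, show 4 * 29 = 29 * 4 from rfl,
        pow_mul, hf, one_pow]
    rcases keyA (I * f) (by norm_num) hu ((X ^ 58 - 1) * (X ^ 4 - 1)) (fun d hd => by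
      have h5 : d ∣ 58 ∨ d ∣ 4 := by
        have h6 : ∀ d ∈ Nat.properDivisors 116, d ∣ 58 ∨ d ∣ 4 := by decide +kernel
        exact h6 d hd
      rcases h5 with h5 | h5
      · exact ((cyclotomic.dvd_X_pow_sub_one d ℚ).trans (dvd_pow_sub_one_of_dvd h5)).mul_right _
      · exact ((cyclotomic.dvd_X_pow_sub_one d ℚ).trans (dvd_pow_sub_one_of_dvd h5)).mul_left _) with h | h
    · refine h.2 ?_
      have h7 : Nat.totient 116 = 56 := by decide +kernel
      rw [h7]
      exact hV
    · exfalso
      rw [map_mul, map_sub, map_sub, map_pow, map_pow, aeval_X, map_one, h4f] at h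
      have h8 : (I * f) ^ 58 = -1 := by
        rw [hIf.mul_pow, show 58 = 58 * 1 from rfl, hI58 1 (by norm_num), show 58 * 1 = 29 * 2 from rfl, pow_mul, hf,
          one_pow, mul_one]
      rw [h8] at h
      have h9 := htwo _ h
      exact hf1 (hpow1 hp29 hf (sub_eq_zero.1 h9) (by norm_num))
  -- step 2
  obtain ⟨a, ha⟩ : ∃ a : Module.End ℚ V, a * (f ^ 4 - 1) = 1 := by
    have hco : IsCoprime (X ^ 4 - 1 : ℚ[X]) (cyclotomic 116 ℚ) := by
      rw [← prod_cyclotomic_eq_X_pow_sub_one (by norm_num : 0 < 4)]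
      refine IsCoprime.prod_left fun d hd => cyclotomic.isCoprime_rat ?_
      rintro rfl
      have := Nat.le_of_dvd (by norm_num) (Nat.dvd_of_mem_divisors hd)
      omega
    obtain ⟨a, b, hab⟩ := hco
    refine ⟨aeval (I * f) a, ?_⟩
    have h1 := congrArg (aeval (I * f)) hab
    rw [map_add, map_mul, map_mul, s1, mul_zero, add_zero, map_sub, map_pow, aeval_X, map_one, h4f] at h1
    exact h1
  -- step 3
  have hcop : Nat.Coprime q 29 := (Nat.coprime_primes hq hp29).2 hq29
  obtain ⟨s, -, hs⟩ := Nat.exists_mul_mod_eq_one_of_coprime hcop (by norm_num)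
  have hqodd : ¬ 2 ∣ q := fun h => hq2 ((Nat.prime_dvd_prime_iff_eq Nat.prime_two hq).1 h).symm
  have hfs : ∀ k : ℕ, f ^ k = f ^ (k % 29) := by
    intro k
    conv_lhs => rw [← Nat.div_add_mod k 29, pow_add, pow_mul, hf, one_pow, one_mul]
  have c1 : Commute I (f ^ s * y) := (hIf.pow_right s).mul_right hIy
  have c2 : Commute (f ^ s) y := hfy.pow_left s
  have e1 : (I * (f ^ s * y)) ^ (58 * q) = -1 := by
    rw [c1.mul_pow, c2.mul_pow, hI58 q hqodd, ← pow_mul, show s * (58 * q) = 29 * (2 * q * s) by ring, pow_mul, hf, one_pow,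
      one_mul, show 58 * q = q * 58 by ring, pow_mul, hy, one_pow, mul_one]
  have e2 : (I * (f ^ s * y)) ^ (4 * q) = f ^ 4 := by
    have h1 : f ^ (s * (4 * q)) = f ^ 4 := by
      rw [hfs, hfs 4, show s * (4 * q) = 4 * (q * s) by ring, Nat.mul_mod, hs]
    rw [c1.mul_pow, c2.mul_pow, pow_mul I, hI4, one_pow, one_mul, ← pow_mul, h1, show 4 * q = q * 4 by ring, pow_mul, hy,
      one_pow, mul_one]
  have e3 : (I * (f ^ s * y)) ^ 116 = y ^ 116 := by
    rw [c1.mul_pow, c2.mul_pow, show 116 = 4 * 29 from rfl, pow_mul I, hI4, one_pow, one_mul, ← pow_mul,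
      show s * (4 * 29) = 29 * (4 * s) by ring, pow_mul f, hf, one_pow, one_mul]
  have hu : (I * (f ^ s * y)) ^ (116 * q) = 1 := by
    rw [pow_mul, e3, ← pow_mul, show 116 * q = q * 116 by ring, pow_mul, hy, one_pow]
  rcases keyA (I * (f ^ s * y)) (Nat.mul_pos (by norm_num) hq.pos) hu
    ((X ^ (58 * q) - 1) * (X ^ (4 * q) - 1) * (X ^ 116 - 1)) (fun d hd => by
      have h5 : d ∣ 58 * q ∨ d ∣ 4 * q ∨ d ∣ 116 := by
        obtain ⟨⟨k, hk⟩, hlt⟩ := Nat.mem_properDivisors.1 hd
        have hk1 : k ≠ 1 := by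
          rintro rfl
          omega
        obtain ⟨p, hp, k', rfl⟩ := Nat.exists_prime_and_dvd hk1
        have h6 : p ∣ 4 * 29 * q := ⟨d * k', by rw [show 4 * 29 = 116 from rfl, hk]; ring⟩
        have h7 : p = 2 ∨ p = 29 ∨ p = q := by
          rcases hp.dvd_mul.1 h6 with h | h
          · rcases hp.dvd_mul.1 h with h | h
            · left
              rw [show 4 = 2 ^ 2 from rfl] at h
              exact (Nat.prime_dvd_prime_iff_eq hp Nat.prime_two).1 (hp.dvd_of_dvd_pow h)
            · right; left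
              exact (Nat.prime_dvd_prime_iff_eq hp hp29).1 h
          · right; right
            exact (Nat.prime_dvd_prime_iff_eq hp hq).1 h
        rcases h7 with rfl | rfl | rfl
        · left
          refine ⟨k', ?_⟩
          apply Nat.eq_of_mul_eq_mul_left (show 0 < 2 by norm_num)
          linarith only [hk]
        · right; left
          refine ⟨k', ?_⟩
          apply Nat.eq_of_mul_eq_mul_left (show 0 < 29 by norm_num)
          linarith only [hk]
        · right; right
          refine ⟨k', ?_⟩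
          apply Nat.eq_of_mul_eq_mul_left hp.pos
          linarith only [hk]
      rcases h5 with h5 | h5 | h5
      · exact (((cyclotomic.dvd_X_pow_sub_one d ℚ).trans (dvd_pow_sub_one_of_dvd h5)).mul_right _).mul_right _
      · exact (((cyclotomic.dvd_X_pow_sub_one d ℚ).trans (dvd_pow_sub_one_of_dvd h5)).mul_left _).mul_right _
      · exact ((cyclotomic.dvd_X_pow_sub_one d ℚ).trans (dvd_pow_sub_one_of_dvd h5)).mul_left _) with h | h
  · have h1 := h.1
    have h2 : Nat.totient (116 * q) = 56 * (q - 1) := by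
      rw [Nat.totient_mul, Nat.totient_prime hq, show Nat.totient 116 = 56 by decide +kernel]
      have h3 : Nat.Coprime (2 ^ 2 * 29) q := Nat.Coprime.mul_left
        (Nat.Coprime.pow_left _ ((Nat.coprime_primes Nat.prime_two hq).2 (Ne.symm hq2))) hcop.symm
      exact h3
    rw [h2] at h1
    have := hq.two_le
    omega
  · rw [map_mul, map_mul, map_sub, map_sub, map_sub, map_pow, map_pow, map_pow, aeval_X, map_one, e1, e2, e3,
      mul_assoc] at h
    have h9 := htwo _ h
    have h10 : y ^ 116 - 1 = 0 := by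
      calc y ^ 116 - 1 = a * (f ^ 4 - 1) * (y ^ 116 - 1) := by rw [ha, one_mul]
        _ = a * ((f ^ 4 - 1) * (y ^ 116 - 1)) := mul_assoc _ _ _
        _ = 0 := by rw [h9, mul_zero]
    refine hy1 (hpow1 hq hy (sub_eq_zero.1 h10) fun h11 => ?_)
    have h12 : q ∣ 2 ^ 2 * 29 := h11
    rcases hq.dvd_mul.1 h12 with h13 | h13
    · exact hq2 ((Nat.prime_dvd_prime_iff_eq hq Nat.prime_two).1 (hq.dvd_of_dvd_pow h13))
    · exact hq29 ((Nat.prime_dvd_prime_iff_eq hq hp29).1 h13)

end

end Cfsg.Agent.H547.SelfCent.Cyclo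
end

-- part: H547/SelfCent/Ru
section
/-!
# The elements of order 29 of the Rudvalis group are self-centralizing (helper547)

The fourfold cover acts on a lattice of rank 28 over `ℤ[i]`; an element of order 29 has the 28 primitive 29th roots of
unity as eigenvalues, so its centralizer lies in `ℚ(i, ζ₂₉)`.
-/

set_option autoImplicit false

namespace Cfsg.Agent.H547.SelfCent.Ru

open Subgroup Cfsg Cfsg.Spor Cfsg.Agent.H393.Iso

open scoped TensorProduct

theorem key_int {L : Type*} [AddCommGroup L] [Module.Finite ℤ L] [Module.Free ℤ L] (hL : Module.finrank ℤ L ≤ 56)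
    {I f y : Module.End ℤ L} (hI : I * I = -1) (hf : f ^ 29 = 1) {q : ℕ}
    (hq : q.Prime) (hq2 : q ≠ 2) (hq29 : q ≠ 29) (hy : y ^ q = 1) (hIf : Commute I f) (hIy : Commute I y)
    (hfy : Commute f y) : f = 1 ∨ y = 1 := by
  let bc := Module.End.baseChangeHom ℤ ℚ L
  have hinj : Function.Injective bc := LinearMap.baseChangeHom_injective ℤ L ℚ
  have h := Cyclo.ru_key (V := ℚ ⊗[ℤ] L) (by rw [Module.finrank_baseChange]; exact hL) (I := bc I) (f := bc f)
    (y := bc y) (by rw [← map_mul, hI, map_neg, map_one]) (by rw [← map_pow, hf, map_one]) hq hq2 hq29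
    (by rw [← map_pow, hy, map_one]) (hIf.map bc) (hIy.map bc) (hfy.map bc)
  rcases h with h | h
  · exact Or.inl (hinj (by rw [h, map_one]))
  · exact Or.inr (hinj (by rw [h, map_one]))

/-- the coordinates -/
def coord : ruLattice →ₗ[ℤ] (RuIdx × Bool → ℤ) where
  toFun v p := if p.2 then ((v : RuVec) p.1).re else ((v : RuVec) p.1).im
  map_add' v w := by
    funext p
    by_cases h : p.2 <;> simp only [h, ↓ _root_.reduceIte, _root_.Int.reduceNeg, _root_.AddSubgroup.coe_add, _root_.Pi.add_apply, _root_.Zsqrtd.re_add, _root_.Bool.false_eq_true, _root_.Zsqrtd.im_add]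
  map_smul' c v := by
    funext p
    by_cases h : p.2 <;> simp only [h, ↓ _root_.reduceIte, _root_.Int.reduceNeg, _root_.AddSubgroupClass.coe_zsmul, _root_.Pi.smul_apply, _root_.zsmul_eq_mul, _root_.Zsqrtd.re_mul, _root_.Zsqrtd.re_intCast, _root_.Zsqrtd.im_intCast, _root_.MulZeroClass.mul_zero, _root_.MulZeroClass.zero_mul, _root_.add_zero, _root_.eq_intCast, _root_.Int.cast_eq, _root_.Int.zsmul_eq_mul, _root_.Bool.false_eq_true, _root_.Zsqrtd.im_mul]

theorem coord_injective : Function.Injective coord := by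
  intro v w h
  apply Subtype.ext
  funext p
  have h1 := congrFun h (p, true)
  have h2 := congrFun h (p, false)
  simp only [coord, _root_.Int.reduceNeg, _root_.LinearMap.coe_mk, _root_.AddHom.coe_mk, ↓ _root_.reduceIte, _root_.Bool.false_eq_true] at h1 h2
  exact Zsqrtd.ext h1 h2

instance : Module.Finite ℤ ruLattice := Module.Finite.of_injective coord coord_injective

instance : Module.Free ℤ ruLattice := Module.Free.of_equiv (LinearEquiv.ofInjective coord coord_injective).symm

theorem finrank_le : Module.finrank ℤ ruLattice ≤ 56 := by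
  refine (LinearMap.finrank_le_finrank_of_injective (f := coord) coord_injective).trans ?_
  rw [Module.finrank_fintype_fun_eq_card]
  decide

/-- the endomorphism of the lattice -/
def toEnd (f : fourRu) : Module.End ℤ ruLattice :=
  (AddMonoidHom.mk' (f : Equiv.Perm ruLattice) f.2.1).toIntLinearMap

theorem toEnd_apply (f : fourRu) (v : ruLattice) : toEnd f v = (f : Equiv.Perm ruLattice) v := rfl

theorem toEnd_mul (f g : fourRu) : toEnd (f * g) = toEnd f * toEnd g := rfl

theorem toEnd_one : toEnd 1 = 1 := rfl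

theorem toEnd_pow (f : fourRu) (n : ℕ) : toEnd (f ^ n) = toEnd f ^ n := by
  induction n with
  | zero => rfl
  | succ n ih => rw [pow_succ, toEnd_mul, ih, pow_succ]

theorem toEnd_injective : Function.Injective toEnd := by
  intro f g h
  apply Subtype.ext
  apply Equiv.ext
  intro v
  rw [← toEnd_apply, h, toEnd_apply]

/-- multiplication by `i` -/
def toI : Module.End ℤ ruLattice :=
  (AddMonoidHom.mk' ruI (fun v w => Subtype.ext (smul_add gI (v : RuVec) (w : RuVec)))).toIntLinearMap

theorem toI_sq : toI * toI = -1 := by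
  apply LinearMap.ext
  intro v
  apply Subtype.ext
  change gI • gI • (v : RuVec) = -(v : RuVec)
  rw [smul_smul, show gI * gI = -1 by decide, neg_one_smul]

theorem toI_comm (f : fourRu) : Commute toI (toEnd f) := by
  apply LinearMap.ext
  intro v
  exact (f.2.2.1 v).symm

/-- **`Ru`** -/
theorem ru {G : Type*} [Group G] [Finite G] (h : IsoRu G) (hna : NA 29 G) {x : G} (hx : orderOf x = 29) :
    Nat.card (centralizer ({x} : Set G)) = 29 := by
  obtain ⟨e⟩ := h
  have hk : Nat.card (center fourRu) = 4 := Cfsg.Agent.S1627.result.1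
  have hcard : Nat.card G = 145926144000 := by
    rw [Nat.card_congr e.toEquiv]
    exact Cfsg.Agent.S1627.result.2.1
  refine card_of_primes (by norm_num) hx (by rw [hcard]; norm_num) hna fun q hq hq2 hq29 g hg ho => ?_
  have hx29 : (e x) ^ 29 = 1 := by rw [← map_pow, ← hx, pow_orderOf_eq_one, map_one]
  have hgq : (e g) ^ q = 1 := by rw [← map_pow, ← ho, pow_orderOf_eq_one, map_one]
  have hq4 : q.Coprime 4 := by
    rw [show 4 = 2 ^ 2 from rfl]
    exact Nat.Coprime.pow_right _ ((Nat.coprime_primes hq Nat.prime_two).2 hq2)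
  obtain ⟨f, hf1, hf2⟩ := exists_lift hk (by norm_num) hx29
  obtain ⟨y, hy1, hy2⟩ := exists_lift hk hq4 hgq
  have hyf : y * f = f * y := comm_lift hk (by norm_num) hf2 (by
    rw [hy1, hf1, ← map_mul, hg, map_mul])
  rcases key_int (L := ruLattice) finrank_le (I := toI) (f := toEnd f) (y := toEnd y) toI_sq
    (by rw [← toEnd_pow, hf2, toEnd_one]) hq hq2 hq29 (by rw [← toEnd_pow, hy2, toEnd_one]) (toI_comm f) (toI_comm y)
    (by change toEnd f * toEnd y = toEnd y * toEnd f; rw [← toEnd_mul, ← toEnd_mul, hyf]) with h | h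
  · have h1 : f = 1 := toEnd_injective (by rw [h, toEnd_one])
    rw [h1, map_one] at hf1
    have h2 : x = 1 := e.injective (by rw [← hf1, map_one])
    rw [h2, orderOf_one] at hx
    norm_num at hx
  · have h1 : y = 1 := toEnd_injective (by rw [h, toEnd_one])
    rw [h1, map_one] at hy1
    have h2 : g = 1 := e.injective (by rw [← hy1, map_one])
    rw [h2, orderOf_one] at ho
    exact hq.one_lt.ne ho

end Cfsg.Agent.H547.SelfCent.Ru
end

private theorem dce_39d8438493a8 : _root_.True := by
  try have : _root_.True := by simp only [_root_.Cfsg.Agent.H547.SelfCent.Ru.coord.eq_1]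
  exact _root_.True.intro
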