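import Cfsg.Agent.H547.SelfCent.Base
import Cfsg.Agent.KFacts.He.TwoA_m3
import Cfsg.Agent.Prune
set_option linter.all false
open scoped Cfsg.Agent.FastGrp

/-!
# The elements of order 17 of the Held group are self-centralizing (helper547)

Pattern of helper69's `CpAutHe/Bound.lean`: the word `c d g b` has order 17 and exactly one fixed point, and its
centralizer has an orbit of length at most 17 with trivial stabilizers.
-/

set_option autoImplicit false
set_option maxRecDepth 100000

namespace Cfsg.Agent.H547.SelfCent.HeRow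

open Subgroup
open Cfsg.Spor Cfsg.Spor.He Cfsg.Agent.SporadicB.HePerm
open Cfsg.Agent.FixBN.HeStab Cfsg.Agent.KFacts.He.Lv Cfsg.Agent.CpAutHe.Cnt

theorem sub_of_chk {l F : List ℕ} (h : (l.all fun a => elemN a F) = true) : l ⊆ F := by
  intro a ha
  rw [List.all_eq_true] at h
  exact of_elemN (h a ha)

/-- the word of order 17 -/
def X : List Gen := [.c, .d, .g, .b]

theorem chk17 : chkB (pw X 17) [] = true := by decide +kernel

theorem x_pow : wd X ^ 17 = 1 := by
  have h := eq_of_chkB chk17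
  rwa [wd_pw, wd_nil] at h

theorem ne_one_of_act {w : List Gen} (i : Fin 2058) (h : Nat.beq (act w i) i = false) : wd w ≠ 1 := by
  intro he
  rw [act_eq, he, map_one] at h
  have h2 : Nat.beq (i : ℕ) (i : ℕ) = true := Nat.beq_refl _
  have h3 : Nat.beq (i : ℕ) (i : ℕ) = false := h
  rw [h2] at h3
  exact absurd h3 (by decide)

theorem x_ne : wd X ≠ 1 := ne_one_of_act 77 (by decide +kernel)

theorem orderOf_x : orderOf (wd X) = 17 := by
  have : Fact (Nat.Prime 17) := ⟨by norm_num⟩
  exact orderOf_eq_prime x_pow x_ne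

theorem cF : cnt 2058 (tst X [] [1] 1927) = 1 := by
  rw [Cfsg.Agent.CpAutHe.Cnt.tst_fast]
  decide +kernel
theorem cA : cnt 2058 (tst X [] [1, 3] 77) = 17 := by
  rw [Cfsg.Agent.CpAutHe.Cnt.tst_fast]
  decide +kernel

theorem s0 : ([77, 534, 581, 953, 106, 1927].all fun a => elemN a (nx X (nx X [] 1927) 77)) = true := by
  decide +kernel
theorem d0 : cnt 2058 (tst X [77, 534, 581, 953, 106, 1927] [2] 0) = 1 := by
  rw [Cfsg.Agent.CpAutHe.Cnt.tst_fast]
  decide +kernel
theorem s1 : ([660, 77, 34].all fun a => elemN a (nx X (nx X (nx X [] 1927) 77) 0)) = true := by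
  decide +kernel
theorem d1 : cnt 2058 (tst X [660, 77, 34] [2] 1) = 1 := by
  rw [Cfsg.Agent.CpAutHe.Cnt.tst_fast]
  decide +kernel
theorem s2 : ([22, 1471, 1856].all fun a => elemN a (nx X (nx X (nx X (nx X [] 1927) 77) 0) 1)) = true := by
  decide +kernel
theorem d2 : cnt 2058 (tst X [22, 1471, 1856] [] 32) = 1 := by
  rw [Cfsg.Agent.CpAutHe.Cnt.tst_fast]
  decide +kernel
theorem s3 : ([1382, 743, 106].all fun a => elemN a (nx X (nx X (nx X (nx X (nx X [] 1927) 77) 0) 1) 32)) = true := by
  decide +kernel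
theorem d3 : cnt 2058 (tst X [1382, 743, 106] [] 8) = 1 := by
  rw [Cfsg.Agent.CpAutHe.Cnt.tst_fast]
  decide +kernel

theorem card_le : Nat.card ↥(centralizer ({wd X} : Set Cfsg.Spor.He)) ≤ 17 := by
  have hC : ∀ c ∈ centralizer ({wd X} : Set Cfsg.Spor.He), c * wd X = wd X * c := fun c hc =>
    mem_centralizer_singleton_iff.1 hc
  have hC1 : ∀ c ∈ st (centralizer ({wd X} : Set Cfsg.Spor.He)) 77, c * wd X = wd X * c := fun c hc =>
    hC c (mem_st.1 hc).1
  have h1 : Nat.card ↥(st (centralizer ({wd X} : Set Cfsg.Spor.He)) 77) ≤ 1 := by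
    rw [Subgroup.card_le_one_iff_eq_bot, eq_bot_iff_forall]
    intro c hc
    have hcX := hC1 c hc
    have f0 : ∀ f ∈ ([] : List ℕ), Fx c f := fun _ hf => absurd hf List.not_mem_nil
    have eF : phi c 1927 = 1927 := fix_of_one hcX f0 1927 [] [1] (fun _ h => h) cF
    have hF1 := fx_nx (p := 1927) hcX f0 eF
    have hF2 := fx_nx (p := 77) hcX hF1 (mem_st.1 hc).2
    have e0 : phi c 0 = 0 := fix_of_one hcX hF2 0 _ [2] (sub_of_chk s0) d0
    have hF3 := fx_nx (p := 0) hcX hF2 e0
    have e1 : phi c 1 = 1 := fix_of_one hcX hF3 1 _ [2] (sub_of_chk s1) d1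
    have hF4 := fx_nx (p := 1) hcX hF3 e1
    have e2 : phi c 32 = 32 := fix_of_one hcX hF4 32 _ [] (sub_of_chk s2) d2
    have hF5 := fx_nx (p := 32) hcX hF4 e2
    have e3 : phi c 8 = 8 := fix_of_one hcX hF5 8 _ [] (sub_of_chk s3) d3
    have e : ∀ i, phi (1 : Cfsg.Spor.He) i = i := fun i => by rw [map_one]; rfl
    apply eq_of_base
    · rw [e0, e]
    · rw [e1, e]
    · rw [e2, e]
    · rw [e3, e]
  exact step (F := []) hC (fun _ _ f hf => absurd hf List.not_mem_nil) 77 [] [1, 3] (fun _ h => h) cA h1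

theorem card_x : Nat.card ↥(centralizer ({wd X} : Set Cfsg.Spor.He)) = 17 := by
  have : Finite Cfsg.Spor.He := finite_he
  refine le_antisymm card_le ?_
  have h1 : zpowers (wd X) ≤ centralizer ({wd X} : Set Cfsg.Spor.He) := by
    rw [zpowers_le, mem_centralizer_singleton_iff]
  have h2 := Nat.le_of_dvd Nat.card_pos (Subgroup.card_dvd_of_le h1)
  rwa [Nat.card_zpowers, orderOf_x] at h2

/-- **The elements of order 17 of the Held group are self-centralizing.** -/
theorem he {G : Type*} [Group G] [Finite G] (h : IsoHe G) (hN : Nat.card G = 4030387200) {x : G}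
    (hx : orderOf x = 17) : Nat.card (centralizer ({x} : Set G)) = 17 := by
  obtain ⟨e⟩ := h
  have : Finite Cfsg.Spor.He := finite_he
  have hcard : Nat.card Cfsg.Spor.He = 4030387200 := by rw [← Nat.card_congr e.toEquiv, hN]
  have h1 : Nat.card ↥(centralizer ({e x} : Set Cfsg.Spor.He)) = 17 := by
    rw [card_cent_eq (r := 17) (by norm_num) (by rw [hcard]; norm_num) (x := e x) (y := wd X)
      (by rw [MulEquiv.orderOf_eq, hx]) orderOf_x, card_x]
  rw [← h1]
  apply Nat.card_congr
  refine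
    { toFun := fun c => ⟨e c, ?_⟩
      invFun := fun c => ⟨e.symm c, ?_⟩
      left_inv := fun c => Subtype.ext (e.symm_apply_apply _)
      right_inv := fun c => Subtype.ext (e.apply_symm_apply _) }
  · rw [mem_centralizer_singleton_iff, ← map_mul, ← map_mul, mem_centralizer_singleton_iff.1 c.2]
  · have h2 := mem_centralizer_singleton_iff.1 c.2
    rw [mem_centralizer_singleton_iff]
    apply e.injective
    rw [map_mul, map_mul, e.apply_symm_apply, h2]

end Cfsg.Agent.H547.SelfCent.HeRow
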