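import Cfsg.Agent.H547.SelfCent.Base
import Cfsg.Agent.S0399
import Cfsg.Agent.SporadicA.M24.Sylow23
import Cfsg.Prelude.Def_Spor_Conway
import Cfsg.Agent.FastGrp
import Cfsg.Agent.Prune
set_option linter.all false
prune_inst 0x7f00000000000000000000000000000000000000000000000000000000000000000000000000000000000000000000000000000000000000000000000000000000000000000000000000000000000000003fffffffffffffffffffffffffffbeffbdffffffff
open scoped Cfsg.Agent.FastGrp

/-!
# The elements of order 23 of the Conway groups are self-centralizing (helper547)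

An element of `Co0` commuting with the cyclic shift of order 23 is monomial, its permutation part is a power of the
shift; hence its 46th power is trivial.
-/

set_option autoImplicit false

namespace Cfsg.Agent.H547.SelfCent.Conway

open Subgroup Cfsg Cfsg.Agent.H393.Iso
open Cfsg.Agent.SporadicA.Co0Mono Cfsg.Agent.SporadicA.Co1Simple

theorem shift_exp {σ : M24} (h : σ * shift = shift * σ) : σ ^ 23 = 1 := by
  have hs : IsSimpleGroup M24 := Cfsg.Agent.S0365.result
  have hcard : Nat.card M24 = 244823040 := Cfsg.Agent.S0364.result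
  have hfin : Finite M24 := Nat.finite_of_card_ne_zero (by rw [hcard]; norm_num)
  have : Fact (Nat.Prime 23) := ⟨by norm_num⟩
  have hne : shift ≠ 1 := by
    intro h1
    apply x23_ne_one
    rw [x23, h1, map_one]
  have ho : orderOf shift = 23 := orderOf_eq_prime shift_pow_23 hne
  have hz : IsPGroup 23 (zpowers shift) := IsPGroup.of_card (n := 1) (by rw [Nat.card_zpowers, ho, pow_one])
  obtain ⟨P, hP⟩ := hz.exists_le_sylow
  have hPc := SporadicA.M24.Sylow23.card_P hcard P
  have heq : zpowers shift = (P : Subgroup M24) := by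
    apply Subgroup.eq_of_le_of_card_ge hP
    rw [hPc, Nat.card_zpowers, ho]
  have hc := SporadicA.M24.Sylow23.centralizer_eq hcard P
  have hσ : σ ∈ zpowers shift := by
    rw [heq, ← hc, mem_centralizer_iff]
    intro y hy
    have hy' : y ∈ (P : Subgroup M24) := hy
    rw [← heq] at hy'
    exact (commute_of_mem (show Commute σ shift from h) hy').eq.symm
  obtain ⟨k, rfl⟩ := mem_zpowers_iff.1 hσ
  rw [← zpow_natCast, ← zpow_mul, mul_comm, zpow_mul, zpow_natCast, shift_pow_23, one_zpow]

/-- an element commuting with the element `x23` of order 23 -/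
theorem x23_exp {g : Co0} (h : g * x23 = x23 * g) : g ^ 46 = 1 := by
  have hgN : g ∈ N := by
    apply mem_N_of_conj
    rw [mul_assoc, ← h, inv_mul_cancel_left]
    exact x23_mem_N
  obtain ⟨c, σ, rfl⟩ := exists_sign_perm hgN
  have h1 : signCo0 (c + wordPerm shift c) * permCo0 (σ * shift * (shift * σ)⁻¹) = 1 := by
    have h2 : permCo0 shift * (signCo0 c * permCo0 σ) = signCo0 (wordPerm shift c) * permCo0 (shift * σ) := by
      rw [← mul_assoc, perm_mul_sign, map_mul, mul_assoc]
    rw [show x23 = permCo0 shift from rfl, h2] at h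
    have h3 : signCo0 c * permCo0 (σ * shift) = signCo0 (wordPerm shift c) * permCo0 (shift * σ) := by
      rw [← h, map_mul, mul_assoc]
    rw [signCo0_add, map_mul, map_inv]
    have h4 : signCo0 c * signCo0 (wordPerm shift c) = signCo0 (wordPerm shift c) * signCo0 c := by
      rw [← signCo0_add, ← signCo0_add, add_comm]
    calc signCo0 c * signCo0 (wordPerm shift c) * (permCo0 (σ * shift) * (permCo0 (shift * σ))⁻¹)
        = signCo0 (wordPerm shift c) * (signCo0 c * permCo0 (σ * shift)) * (permCo0 (shift * σ))⁻¹ := by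
          rw [h4]; group
      _ = (signCo0 (wordPerm shift c) * signCo0 (wordPerm shift c)) := by rw [h3]; group
      _ = 1 := signCo0_mul_self _
  have h5 := perm_eq_one h1
  have h6 : σ * shift = shift * σ := by
    calc σ * shift = σ * shift * (shift * σ)⁻¹ * (shift * σ) := by group
      _ = shift * σ := by rw [h5, one_mul]
  have h7 := shift_exp h6
  obtain ⟨d, hd⟩ := sign_perm_pow c σ 23
  rw [h7, map_one, mul_one] at hd
  rw [show 46 = 23 * 2 from rfl, pow_mul, hd, pow_two, signCo0_mul_self]

theorem card_co0 : Nat.card Co0 = 8315553613086720000 := Cfsg.Agent.S0397.result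

theorem finite_co0 : Finite Co0 := Nat.finite_of_card_ne_zero (by rw [card_co0]; norm_num)

theorem co0_exp {x g : Co0} (hx : orderOf x = 23) (h : g * x = x * g) : g ^ 46 = 1 := by
  have := finite_co0
  exact exp_conj (by norm_num) (by rw [card_co0]; norm_num) orderOf_x23 (fun c hc => x23_exp hc) hx h

/-- a group embedded in `Co0` -/
theorem of_injective {G : Type*} [Group G] [Finite G] (f : G →* Co0) (hf : Function.Injective f) (hna : NA 23 G) {x : G}
    (hx : orderOf x = 23) : Nat.card (centralizer ({x} : Set G)) = 23 := by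
  have := finite_co0
  have hd : Nat.card G ∣ Nat.card Co0 := Subgroup.card_dvd_of_injective f hf
  refine card_of_exp (a := 1) (by norm_num) hx (fun h => ?_) hna fun g hg => ?_
  · have h1 := h.trans hd
    rw [card_co0] at h1
    revert h1
    norm_num
  · apply hf
    rw [map_pow, map_one]
    refine co0_exp (x := f x) ?_ ?_
    · rw [orderOf_injective f hf, hx]
    · rw [← map_mul, hg, map_mul]

/-- **`Co2`** -/
theorem co2 {G : Type*} [Group G] [Finite G] (h : Spor.IsoCo2 G) (hna : NA 23 G) {x : G} (hx : orderOf x = 23) :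
    Nat.card (centralizer ({x} : Set G)) = 23 := by
  obtain ⟨e⟩ := h
  have hle : Spor.Co2 ≤ Co0 := inf_le_left
  refine of_injective ((Subgroup.inclusion hle).comp e.toMonoidHom) ?_ hna hx
  exact (Subgroup.inclusion_injective hle).comp e.injective

/-- **`Co3`** -/
theorem co3 {G : Type*} [Group G] [Finite G] (h : Spor.IsoCo3 G) (hna : NA 23 G) {x : G} (hx : orderOf x = 23) :
    Nat.card (centralizer ({x} : Set G)) = 23 := by
  obtain ⟨e⟩ := h
  have hle : Spor.Co3 ≤ Co0 := inf_le_left
  refine of_injective ((Subgroup.inclusion hle).comp e.toMonoidHom) ?_ hna hx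
  exact (Subgroup.inclusion_injective hle).comp e.injective

/-- an element of order 23 of `Co1` -/
theorem co1_exp {x g : Spor.Co1} (hx : orderOf x = 23) (h : g * x = x * g) : g ^ 46 = 1 := by
  have hZ : Nat.card (center Co0) = 2 := Cfsg.Agent.S0398.result
  have hz2 : ∀ z ∈ center Co0, z * z = 1 := by
    intro z hz
    have h1 : (⟨z, hz⟩ : center Co0) ^ 2 = 1 := by rw [← hZ]; exact pow_card_eq_one'
    have h2 := congrArg Subtype.val h1
    rw [← pow_two]
    exact h2
  obtain ⟨y, rfl⟩ := QuotientGroup.mk'_surjective (center Co0) x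
  obtain ⟨c, rfl⟩ := QuotientGroup.mk'_surjective (center Co0) g
  have hp23 : (QuotientGroup.mk' (center Co0) y) ^ 23 = 1 := by rw [← hx]; exact pow_orderOf_eq_one _
  have hy23 : y ^ 23 ∈ center Co0 := by
    rw [← QuotientGroup.ker_mk' (center Co0), MonoidHom.mem_ker, map_pow]
    exact hp23
  have h46 : y ^ 23 * y ^ 23 = 1 := hz2 _ hy23
  -- the lift of order 23
  have hx0 : QuotientGroup.mk' (center Co0) (y ^ 24) = QuotientGroup.mk' (center Co0) y := by
    rw [map_pow, pow_succ, hp23, one_mul]
  have hx023 : (y ^ 24) ^ 23 = 1 := by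
    have h3 : (y ^ 24) ^ 23 = (y ^ 23 * y ^ 23) ^ 12 := by
      rw [← pow_add, ← pow_mul, ← pow_mul]
    rw [h3, h46, one_pow]
  have hord : orderOf (y ^ 24) = 23 := by
    have : Fact (Nat.Prime 23) := ⟨by norm_num⟩
    refine orderOf_eq_prime hx023 fun h3 => ?_
    rw [← hx0, h3, map_one, orderOf_one] at hx
    norm_num at hx
  have hcomm : c * y ^ 24 = y ^ 24 * c := by
    have h4 : c * y ^ 24 * c⁻¹ * (y ^ 24)⁻¹ ∈ center Co0 := by
      rw [← QuotientGroup.ker_mk' (center Co0), MonoidHom.mem_ker, map_mul, map_mul, map_mul, map_inv, map_inv, hx0,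
        h]
      group
    set z := c * y ^ 24 * c⁻¹ * (y ^ 24)⁻¹ with hz
    have h5 : c * y ^ 24 * c⁻¹ = z * y ^ 24 := by rw [hz]; group
    have h6 : (c * y ^ 24 * c⁻¹) ^ 23 = 1 := by rw [conj_pow, hx023, mul_one, mul_inv_cancel]
    have h7 : Commute z (y ^ 24) := (mem_center_iff.1 h4 (y ^ 24)).symm
    rw [h5, h7.mul_pow, hx023, mul_one] at h6
    have h8 : z = 1 := by
      have h9 : z ^ 23 = z * (z * z) ^ 11 := by
        rw [← pow_two, ← pow_mul, ← pow_succ']
      rw [h9, hz2 z h4, one_pow, mul_one] at h6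
      exact h6
    rw [h8, one_mul] at h5
    calc c * y ^ 24 = c * y ^ 24 * c⁻¹ * c := by group
      _ = y ^ 24 * c := by rw [h5]
  have h10 := co0_exp hord hcomm
  rw [← map_pow, h10, map_one]

/-- **`Co1`** -/
theorem co1 {G : Type*} [Group G] [Finite G] (h : Spor.IsoCo1 G) (hna : NA 23 G) {x : G} (hx : orderOf x = 23) :
    Nat.card (centralizer ({x} : Set G)) = 23 := by
  obtain ⟨e⟩ := h
  have hZ : Nat.card (center Co0) = 2 := Cfsg.Agent.S0398.result
  have hcard : Nat.card G = 4157776806543360000 := by
    have h1 := Subgroup.card_eq_card_quotient_mul_card_subgroup (center Co0)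
    rw [card_co0, hZ] at h1
    rw [Nat.card_congr e.toEquiv]
    change Nat.card (Co0 ⧸ center Co0) = _
    omega
  refine card_of_exp (a := 1) (by norm_num) hx (by rw [hcard]; norm_num) hna fun g hg => ?_
  apply e.injective
  rw [map_pow, map_one]
  refine co1_exp (x := e x) ?_ ?_
  · rw [← hx]
    exact orderOf_injective e.toMonoidHom e.injective x
  · rw [← map_mul, hg, map_mul]

end Cfsg.Agent.H547.SelfCent.Conway
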