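import Cfsg.Agent.H547.SelfCent.Base
import Cfsg.Agent.H87.TitsData
import Cfsg.Agent.FastGrp
import Cfsg.Agent.Prune
set_option linter.all false
prune_inst 0x7f00000000000000000000000000000000000000000000000000000000000000000000000000000000000000000000000000000000000000000000000000000000000000000000000000000000000000003fffffffffffffffffffffffffffbeffbdffffffff
open scoped Cfsg.Agent.FastGrp

/-!
# The elements of order 13 of the Tits group are self-centralizing (helper547)
-/

set_option autoImplicit false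

namespace Cfsg.Agent.H547.SelfCent

open Subgroup Cfsg.Agent.H393.Iso

open Cfsg.Agent.KFacts.OddLift.Basic Cfsg.Agent.KFacts.OddLift.TitMat Cfsg.Agent.KFacts.OddLift.TitGen
open Cfsg.Agent.SporadicRecognition.CosetCert Cfsg.Agent.SporadicRecognition.CosetCertHyp
open Cfsg.Agent.ChevalleyStructure.Tits.Pack Cfsg.Agent.ChevalleyStructure.Tits.Mat
  Cfsg.Agent.ChevalleyStructure.Tits.Main Cfsg.Agent.ChevalleyStructure.Tits.Order

open scoped MatrixGroups

namespace TitsRow

/-- word of an element inverting the letter `0` -/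
def jw : List ℕ := [3, 6, 3, 5, 6, 3, 7, 2, 7, 5, 3, 7, 2, 5]

theorem jw_ok : Nat.beq (evP (jw ++ [0])) (evP ([1] ++ jw)) = true := by decide +kernel

theorem jw_lt : ((jw ++ [0]).all fun y => Nat.blt y 8) = true ∧ (([1] ++ jw).all fun y => Nat.blt y 8) = true := by
  decide

theorem rel_j : ev (lt b 4) (jw ++ [0]) = ev (lt b 4) ([1] ++ jw) := by
  apply Subtype.ext
  rw [coe_ev_b, coe_ev_b]
  apply Subtype.ext
  rw [coe_ev_bH, coe_ev_bH]
  apply Units.ext
  rw [coe_ev (all_lt8 jw_lt.1), coe_ev (all_lt8 jw_lt.2), Nat.eq_of_beq_eq_true jw_ok]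

theorem exists_aux : ∃ x t j : commutator H0, x ^ 13 = 1 ∧ x ≠ 1 ∧ t * x * t⁻¹ = x ^ 3 ∧ j * x * j⁻¹ = x⁻¹ := by
  refine ⟨H87.TitsData.dat.x, H87.TitsData.dat.t, ev (lt b 4) jw, H87.TitsData.dat.x13, H87.TitsData.dat.x1,
    H87.TitsData.dat.txt, ?_⟩
  have h := rel_j
  rw [H87.TitsData.ev_append, H87.TitsData.ev_append, H87.TitsData.ev_one, H87.TitsData.ev_one] at h
  have h1 : lt b 4 1 = (lt b 4 0)⁻¹ := by
    rw [lt_even b 4 (y := 0) (by norm_num) (by norm_num), lt_odd b 4 (y := 1) (by norm_num) (by norm_num)]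
  have h3 : H87.TitsData.dat.x = lt b 4 0 := rfl
  rw [h3, h, h1]
  group

theorem exists_aux' (K : Subgroup (GL I52 (ZMod 2))) (hK : K = H0) :
    ∃ x t j : commutator K, x ^ 13 = 1 ∧ x ≠ 1 ∧ t * x * t⁻¹ = x ^ 3 ∧ j * x * j⁻¹ = x⁻¹ := by
  subst hK
  exact exists_aux

theorem exists_tits : ∃ x t j : Cfsg.Lie.TitsGroup, x ^ 13 = 1 ∧ x ≠ 1 ∧ t * x * t⁻¹ = x ^ 3 ∧ j * x * j⁻¹ = x⁻¹ :=
  exists_aux' _ T0_eq_H0

end TitsRow

/-- **The elements of order 13 of the Tits group are self-centralizing.** -/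
theorem tits {G : Type*} [Group G] [Finite G] (h : Cfsg.Lie.IsoTits G) (hs : IsSimpleGroup G) (hna : NA 13 G) {x : G}
    (hx : orderOf x = 13) : Nat.card (centralizer ({x} : Set G)) = 13 := by
  obtain ⟨e⟩ := h
  have hcard : Nat.card G = 17971200 := by
    rw [Nat.card_congr e.toEquiv, H87.TitsData.card_tits]
    norm_num
  have hp : Nat.Prime 13 := by norm_num
  have : Fact (Nat.Prime 13) := ⟨hp⟩
  have hsq : ¬ 13 * 13 ∣ Nat.card G := by rw [hcard]; norm_num
  obtain ⟨y', t', j', h13, h1, ht, hj⟩ := TitsRow.exists_tits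
  obtain ⟨y, rfl⟩ : ∃ y, y' = e y := ⟨e.symm y', (e.apply_symm_apply _).symm⟩
  obtain ⟨t, rfl⟩ : ∃ y, t' = e y := ⟨e.symm t', (e.apply_symm_apply _).symm⟩
  obtain ⟨j, rfl⟩ : ∃ y, j' = e y := ⟨e.symm j', (e.apply_symm_apply _).symm⟩
  have ht2 : t * y * t⁻¹ = y ^ 3 := e.injective (by simpa using ht)
  have hj2 : j * y * j⁻¹ = y⁻¹ := e.injective (by simpa using hj)
  have h13' : y ^ 13 = 1 := e.injective (by simpa using h13)
  have h1' : y ≠ 1 := fun h => h1 (by rw [h, map_one])
  have hy : orderOf y = 13 := orderOf_eq_prime h13' h1'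
  have hyc : Nat.card (centralizer ({y} : Set G)) = 13 := by
    refine card_of_chkC (m := 6) (l := [(3, 3), (5, 2)]) hp hy hcard (by norm_num) (by norm_num) (by decide) ?_ ?_
      (by decide +kernel)
    · have h2 : Nat.card (centralizer ({y} : Set G)) ∣ 2 ^ 11 * (13 * 675) := by
        have := Subgroup.card_subgroup_dvd_card (centralizer ({y} : Set G))
        rw [hcard] at this
        norm_num
        exact this
      refine (Nat.Coprime.dvd_of_dvd_mul_left ?_ h2)
      exact (Nat.Coprime.pow_right _ (((Nat.Prime.coprime_iff_not_dvd Nat.prime_two).2 (odd_cent hy hna)).symm))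
    · intro e' _ h5
      have h2 : 2 ^ (0 + 1) ∣ e' := h5 j 12 2 0 Nat.prime_two (by
        rw [hj2, inv_eq_iff_mul_eq_one, ← pow_succ']
        exact h13') (by norm_num) (by norm_num)
      have h3 : 3 ^ (0 + 1) ∣ e' := h5 t 3 3 0 Nat.prime_three ht2 (by norm_num) (by norm_num)
      exact Nat.Coprime.mul_dvd_of_dvd_of_dvd (by norm_num) h2 h3
  -- all elements of order 13
  refine card_of_exp (a := 0) hp hx hsq hna fun g hg => ?_
  refine exp_conj hp hsq hy (fun c hc => ?_) hx hg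
  have hc' : c ∈ centralizer ({y} : Set G) := mem_centralizer_singleton_iff.2 hc
  have h6 : (⟨c, hc'⟩ : centralizer ({y} : Set G)) ^ 13 = 1 := by
    rw [← hyc]
    exact pow_card_eq_one'
  exact congrArg Subtype.val h6

end Cfsg.Agent.H547.SelfCent
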